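import Groth.Prelude.Def_ModSt
import Groth.Prelude.Def_FibCat2
import Groth.Agent.MorLib.FlatBC
import Groth.Agent.FlatFun4.FPPull

/-!
# The category of families of modules is fibred in groupoids
-/

set_option autoImplicit false
set_option linter.style.haveILetI false
set_option backward.isDefEq.respectTransparency false
set_option backward.isDefEq.respectTransparency.types false

universe u

open CategoryTheory CategoryTheory.Limits AlgebraicGeometry

namespace Groth.Agent.ModSt10

open ModSt

theorem isCart_unit {Y Z : Scheme.{u}} (h : Y ⟶ Z) (N : Z.Modules) :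
    IsCart h ((Scheme.Modules.pullbackPushforwardAdjunction h).unit.app N) := by
  intro M'
  have e : (fun v : (Scheme.Modules.pullback h).obj N ⟶ M' =>
      (Scheme.Modules.pullbackPushforwardAdjunction h).unit.app N ≫ (Scheme.Modules.pushforward h).map v) =
      (Scheme.Modules.pullbackPushforwardAdjunction h).homEquiv N M' := by
    funext v
    rw [Adjunction.homEquiv_unit]
  rw [e]
  exact Equiv.bijective _

theorem comp_map {Y Z W : Scheme.{u}} {a : Y ⟶ Z} {b : Z ⟶ W} {N : Z.Modules} {P : W.Modules} {M M' : Y.Modules}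
    (c₂ : P ⟶ (Scheme.Modules.pushforward b).obj N) (w : N ⟶ (Scheme.Modules.pushforward a).obj M) (v : M ⟶ M') :
    (c₂ ≫ (Scheme.Modules.pushforward b).map w ≫ (Scheme.Modules.pushforwardComp a b).hom.app M) ≫
        (Scheme.Modules.pushforward (a ≫ b)).map v =
      c₂ ≫ (Scheme.Modules.pushforward b).map (w ≫ (Scheme.Modules.pushforward a).map v) ≫
        (Scheme.Modules.pushforwardComp a b).hom.app M' := by
  simp only [Category.assoc, Functor.map_comp, ← (Scheme.Modules.pushforwardComp a b).hom.naturality v]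
  rfl

/-- Factorisation through a cartesian comparison map. -/
theorem exists_factor {Y Z W : Scheme.{u}} {a : Y ⟶ Z} {b : Z ⟶ W} {N : Z.Modules} {P : W.Modules} {M : Y.Modules}
    {c₂ : P ⟶ (Scheme.Modules.pushforward b).obj N} (h₂ : IsCart b c₂)
    {c : P ⟶ (Scheme.Modules.pushforward (a ≫ b)).obj M} (hc : IsCart (a ≫ b) c) :
    ∃ w : N ⟶ (Scheme.Modules.pushforward a).obj M, IsCart a w ∧
      c₂ ≫ (Scheme.Modules.pushforward b).map w ≫ (Scheme.Modules.pushforwardComp a b).hom.app M = c := by
  obtain ⟨w, hw⟩ := (h₂ _).2 (c ≫ (Scheme.Modules.pushforwardComp a b).inv.app M)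
  simp only at hw
  have hwc : c₂ ≫ (Scheme.Modules.pushforward b).map w ≫ (Scheme.Modules.pushforwardComp a b).hom.app M = c := by
    rw [reassoc_of% hw, Iso.inv_hom_id_app]
    exact Category.comp_id _
  refine ⟨w, fun M' => ⟨fun v v' h => (hc M').1 ?_, fun x => ?_⟩, hwc⟩
  · simp only at h ⊢
    rw [← hwc, comp_map, comp_map, h]
  · obtain ⟨v, hv⟩ := (hc M').2 (c₂ ≫ (Scheme.Modules.pushforward b).map x ≫
      (Scheme.Modules.pushforwardComp a b).hom.app M')
    simp only at hv
    rw [← hwc, comp_map] at hv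
    refine ⟨v, (h₂ _).1 ?_⟩
    exact (cancel_mono ((Scheme.Modules.pushforwardComp a b).hom.app M')).1
      (by simpa only [Category.assoc] using hv)

theorem factor_unique {Y Z W : Scheme.{u}} {a : Y ⟶ Z} {b : Z ⟶ W} {N : Z.Modules} {P : W.Modules} {M : Y.Modules}
    {c₂ : P ⟶ (Scheme.Modules.pushforward b).obj N} (h₂ : IsCart b c₂)
    {w w' : N ⟶ (Scheme.Modules.pushforward a).obj M}
    (h : c₂ ≫ (Scheme.Modules.pushforward b).map w ≫ (Scheme.Modules.pushforwardComp a b).hom.app M =
      c₂ ≫ (Scheme.Modules.pushforward b).map w' ≫ (Scheme.Modules.pushforwardComp a b).hom.app M) : w = w' :=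
  (h₂ _).1 ((cancel_mono ((Scheme.Modules.pushforwardComp a b).hom.app M)).1
    (by simpa only [Category.assoc] using h))

theorem heq_congr_app {Y Z : Scheme.{u}} {h h' : Y ⟶ Z} (e : h = h') {N : Z.Modules} {M : Y.Modules}
    (c : N ⟶ (Scheme.Modules.pushforward h).obj M) (U : Z.Opens) (x : Γ(N, U)) :
    HEq ((c ≫ (Scheme.Modules.pushforwardCongr e).hom.app M).app U x) (c.app U x) := by
  subst e
  have : (Scheme.Modules.pushforwardCongr (rfl : h = h)).hom.app M = 𝟙 _ := by
    apply Scheme.Modules.hom_ext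
    intro V
    simp
  rw [this, Category.comp_id]

variable {X S : Scheme.{u}} {f : X ⟶ S}

/-- Every morphism of families is strongly cartesian. -/
theorem isStronglyCartesian {y x : Obj f} (φ : y ⟶ x) :
    (Obj.forget f).IsStronglyCartesian ((Obj.forget f).map φ) φ := by
  refine { universal_property' := fun {z} g ψ hψ => ?_ }
  have hb : ψ.base = g ≫ φ.base := by
    have := IsHomLift.fac' (Obj.forget f) (g ≫ (Obj.forget f).map φ) ψ
    simpa [Obj.forget] using this
  let t : z.XT ⟶ y.XT := (Obj.Hom.isPullback_top φ).lift ψ.top (z.q ≫ g.left) (by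
    rw [ψ.w_q, hb, Category.assoc]; rfl)
  have ht : t ≫ φ.top = ψ.top := IsPullback.lift_fst _ _ _ _
  obtain ⟨w, hw, hwc⟩ := exists_factor (a := t) φ.cart (ψ.cart.congr ht.symm)
  let χ : z ⟶ y := ⟨g, t, by rw [← φ.w_p, reassoc_of% ht, ψ.w_p], IsPullback.lift_snd _ _ _ _, w, hw⟩
  have hχ : χ ≫ φ = ψ := Obj.Hom.ext' hb.symm ht fun U s => by
    show HEq ((φ.c ≫ (Scheme.Modules.pushforward φ.top).map w ≫
      (Scheme.Modules.pushforwardComp t φ.top).hom.app z.E).app U s) (ψ.c.app U s)
    rw [hwc]
    exact heq_congr_app ht.symm ψ.c U s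
  refine ⟨χ, ⟨IsHomLift.map (Obj.forget f) χ, hχ⟩, ?_⟩
  rintro χ' ⟨hχ', hcomp⟩
  have hb' : χ'.base = g := by
    have := IsHomLift.fac' (Obj.forget f) g χ'
    simpa [Obj.forget] using this
  have ht' : χ'.top = t := (Obj.Hom.isPullback_top φ).hom_ext
    (by
      have := congrArg Obj.Hom.top hcomp
      exact this.trans ht.symm)
    (by rw [χ'.w_q, hb']; exact (IsPullback.lift_snd _ _ _ _).symm)
  obtain ⟨b', t', wp', wq', c', hc'⟩ := χ'
  simp only at hb' ht'
  subst hb' ht'
  have : c' = w := by
    refine factor_unique (b := φ.top) (M := z.E) φ.cart ?_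
    have h1 := hcomp.trans hχ.symm
    exact Scheme.Modules.hom_ext _ _ fun U => by
      ext s
      refine eq_of_heq ?_
      have key : ∀ {a b : z ⟶ x}, a = b → HEq (a.c.app U s) (b.c.app U s) := by rintro a b rfl; rfl
      have h2 := key h1
      simp only [Obj.comp_c] at h2
      exact h2
  subst this
  rfl

/-- The pullback of a family along a morphism of bases. -/
noncomputable def pullObj (A : Obj f) {V : Over S} (g : V ⟶ A.base) : Obj f where
  base := V
  XT := pullback A.q g.left
  p := pullback.fst A.q g.left ≫ A.p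
  q := pullback.snd A.q g.left
  isPullback := by
    rw [← Over.w g]
    exact (IsPullback.of_hasPullback A.q g.left).paste_horiz A.isPullback
  E := (Scheme.Modules.pullback (pullback.fst A.q g.left)).obj A.E

/-- The canonical morphism from the pullback. -/
noncomputable def pullHom (A : Obj f) {V : Over S} (g : V ⟶ A.base) : pullObj A g ⟶ A where
  base := g
  top := pullback.fst A.q g.left
  w_p := rfl
  w_q := pullback.condition
  c := (Scheme.Modules.pullbackPushforwardAdjunction (pullback.fst A.q g.left)).unit.app A.E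
  cart := isCart_unit _ _

theorem isCohObj_pullObj {A : Obj f} (hA : IsCohObj A) {V : Over S} (g : V ⟶ A.base) : IsCohObj (pullObj A g) :=
  ⟨fun x' => MorLib.FlatBC.isFlatOverAt_baseChange A.q (pullback.snd A.q g.left) (pullback.fst A.q g.left) g.left
    (IsPullback.of_hasPullback A.q g.left) A.E x' (hA.1 _), FlatFun4.isFP_pullback _ hA.2⟩

theorem isFibGrpd_coh : FibCat.IsFibGrpd (Coh f).p where
  exists_lift {x V} g := by
    refine ⟨⟨pullObj x.obj g, isCohObj_pullObj x.property g⟩, ObjectProperty.homMk (pullHom x.obj g), ?_⟩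
    exact IsHomLift.map (Coh f).p (ObjectProperty.homMk (pullHom x.obj g) :
      (⟨pullObj x.obj g, isCohObj_pullObj x.property g⟩ : (Coh f).obj) ⟶ x)
  isStronglyCartesian {y x} φ := by
    refine { universal_property' := fun {z} g ψ hψ => ?_ }
    haveI := isStronglyCartesian φ.hom
    haveI : (Obj.forget f).IsHomLift (g ≫ (Obj.forget f).map φ.hom) ψ.hom :=
      IsHomLift.of_fac' _ _ _ rfl rfl (IsHomLift.fac' (Coh f).p (g ≫ (Coh f).p.map φ) ψ)
    obtain ⟨χ, ⟨hχ, hc⟩, huniq⟩ := Functor.IsStronglyCartesian.universal_property (Obj.forget f)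
      ((Obj.forget f).map φ.hom) φ.hom g (g ≫ (Obj.forget f).map φ.hom) rfl ψ.hom
    refine ⟨ObjectProperty.homMk χ, ⟨?_, InducedCategory.hom_ext hc⟩, ?_⟩
    · haveI := hχ
      exact IsHomLift.of_fac' _ _ _ rfl rfl (IsHomLift.fac' (Obj.forget f) g χ)
    · rintro χ' ⟨hχ', hc'⟩
      refine InducedCategory.hom_ext (huniq χ'.hom ⟨?_, congrArg InducedCategory.Hom.hom hc'⟩)
      exact IsHomLift.of_fac' _ _ _ rfl rfl (IsHomLift.fac' (Coh f).p g χ')

end Groth.Agent.ModSt10
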